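import Groth.Agent.FibDimLib.Semicont
import Groth.Agent.FibDimLib.Smooth
import Groth.Agent.FibDimLib.Formula
import Groth.Agent.WeilLib.Dim
import Mathlib

/-!
# The dimension of the special fibre plus the residue transcendence degree

For a flat local domain essentially of finite type over a local domain, this is the generic
transcendence degree.
-/

set_option autoImplicit false

universe u

open IsLocalRing AlgebraicGeometry CategoryTheory
open scoped TensorProduct

namespace DimTrdegLib

/-- The transcendence degree does not change in passing to the fraction field. -/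
theorem trdeg_fractionRing_eq (k D L : Type u) [CommRing k] [IsDomain k] [CommRing D] [IsDomain D] [Field L]
    [Algebra k D] [Algebra D L] [Algebra k L] [IsScalarTower k D L] [IsFractionRing D L] [FaithfulSMul k D] :
    Algebra.trdeg k L = Algebra.trdeg k D := by
  haveI : Algebra.IsAlgebraic D L := IsLocalization.isAlgebraic L (nonZeroDivisors D)
  rw [← trdeg_add_eq k D (A := L), trdeg_eq_zero (R := D) (A := L), add_zero]

/-- Algebraically independent residues lift to algebraically independent elements of a flat algebra. -/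
theorem algebraicIndependent_of_residue {A C L κ : Type u} [CommRing A] [IsLocalRing A] [CommRing C] [Algebra A C]
    [CommRing L] [Algebra A L] [Algebra C L] [IsScalarTower A C L] [Module.Flat A L]
    [CommRing κ] [Algebra A κ] {k₀ : Type u} [Field k₀] [Algebra A k₀] [Algebra k₀ κ] [IsScalarTower A k₀ κ]
    (hk : Function.Surjective (algebraMap A k₀))
    (ψ : L →ₐ[A] κ) {ι : Type u} (x : ι → C)
    (h₀ : AlgebraicIndependent k₀ fun i => ψ (algebraMap C L (x i))) : AlgebraicIndependent A x := by
  classical
  let k := ResidueField A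
  have hker : RingHom.ker (algebraMap A k₀) = maximalIdeal A :=
    IsLocalRing.eq_maximalIdeal (RingHom.ker_isMaximal_of_surjective _ hk)
  let θ : k →+* k₀ := Ideal.Quotient.lift (maximalIdeal A) (algebraMap A k₀) fun a ha => by rwa [← hker] at ha
  letI : Algebra k κ := ((algebraMap k₀ κ).comp θ).toAlgebra
  haveI : IsScalarTower A k κ := by
    refine IsScalarTower.of_algebraMap_eq (R := A) (S := k) (A := κ) fun a => ?_
    exact IsScalarTower.algebraMap_apply A k₀ κ a
  have h : AlgebraicIndependent k fun i => ψ (algebraMap C L (x i)) :=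
    AlgebraicIndependent.of_ringHom_of_comp_eq (S := k₀) (B := κ) θ (RingHom.id κ) h₀ θ.injective (RingHom.ext fun _ => rfl)
  let v : (ι →₀ ℕ) → L := fun d => algebraMap C L (d.prod fun i n => x i ^ n)
  let w : (ι →₀ ℕ) → κ := fun d => d.prod fun i n => ψ (algebraMap C L (x i)) ^ n
  have hw : LinearIndependent k w := by
    rw [linearIndependent_iff]
    intro l hl
    let f : MvPolynomial ι k := ∑ d ∈ l.support, MvPolynomial.monomial d (l d)
    have hcoeff : ∀ d, MvPolynomial.coeff d f = l d := fun d => by
      simp only [f, MvPolynomial.coeff_sum, MvPolynomial.coeff_monomial, Finset.sum_ite_eq', Finsupp.mem_support_iff]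
      split_ifs with h0
      · rfl
      · exact (not_not.1 h0).symm
    have hf : f = 0 := by
      refine h.eq_zero_of_aeval_eq_zero f ?_
      simp only [f, map_sum, MvPolynomial.aeval_monomial]
      rw [← hl, Finsupp.linearCombination_apply, Finsupp.sum]
      exact Finset.sum_congr rfl fun d _ => (Algebra.smul_def _ _).symm
    ext d
    rw [← hcoeff, hf, MvPolynomial.coeff_zero, Finsupp.zero_apply]
  have hv : LinearIndependent A v := by
    refine Module.IsLocalRing.linearIndependent_of_flat v ?_
    let Φ : k ⊗[A] L →ₗ[k] κ := (ψ.toLinearMap.liftBaseChange k)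
    refine LinearIndependent.of_comp Φ ?_
    convert hw using 1
    funext d
    simp [Φ, v, w, Finsupp.prod, map_prod, map_pow]
  rw [algebraicIndependent_iff]
  intro f hf
  ext d
  rw [MvPolynomial.coeff_zero]
  have hl : Finsupp.linearCombination A v (Finsupp.onFinset f.support (fun d => MvPolynomial.coeff d f)
      fun d hd => MvPolynomial.mem_support_iff.2 hd) = 0 := by
    have h2 : algebraMap C L (MvPolynomial.aeval x f) = 0 := by rw [hf, map_zero]
    rw [f.as_sum, map_sum, map_sum] at h2
    rw [Finsupp.linearCombination_onFinset]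
    rw [← h2]
    refine Finset.sum_congr rfl fun d _ => ?_
    rw [MvPolynomial.aeval_monomial, map_mul, ← IsScalarTower.algebraMap_apply, Algebra.smul_def]
  have h3 := DFunLike.congr_fun (linearIndependent_iff.1 hv _ hl) d
  simpa using h3

/-- The topological dimension of the fibre is the dimension of the fibre ring. -/
theorem topologicalKrullDim_fiber (R A : Type u) [CommRing R] [CommRing A] [Algebra R A] (p : PrimeSpectrum R) :
    topologicalKrullDim ((Spec.map (CommRingCat.ofHom (algebraMap R A))).fiber p) =
      ringKrullDim (p.asIdeal.Fiber A) := by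
  let f := Spec.map (CommRingCat.ofHom (algebraMap R A))
  let H := PrimeSpectrum.preimageHomeomorphFiber R A p
  rw [← PrimeSpectrum.topologicalKrullDim_eq_ringKrullDim]
  let e : ↥(f.base ⁻¹' {p}) ≃ₜ ↥(PrimeSpectrum.comap (algebraMap R A) ⁻¹' {p}) := Homeomorph.setCongr rfl
  exact IsHomeomorph.topologicalKrullDim_eq _ (((f.fiberHomeo p).trans e).trans H).isHomeomorph

variable {A : Type u} [CommRing A] [IsDomain A] [IsLocalRing A]
variable {C : Type u} [CommRing C] [IsDomain C] [Algebra A C] [Algebra.FiniteType A C] [FaithfulSMul A C]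

set_option synthInstance.maxHeartbeats 200000 in
set_option maxHeartbeats 1000000 in
/-- The generic fibre has dimension the transcendence degree. -/
theorem dim_generic_fibre : ∃ t : ℕ, ringKrullDim ((⊥ : Ideal A).Fiber C) = t ∧ Algebra.trdeg A C = t := by
  let K := (⊥ : Ideal A).ResidueField
  let M := Algebra.algebraMapSubmonoid C (nonZeroDivisors A)
  have hM : M ≤ nonZeroDivisors C := by
    rintro _ ⟨a, ha, rfl⟩
    exact mem_nonZeroDivisors_of_ne_zero ((map_ne_zero_iff _ (FaithfulSMul.algebraMap_injective A C)).2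
      (nonZeroDivisors.ne_zero ha))
  let G := Localization M
  haveI : IsDomain G := IsLocalization.isDomain_localization hM
  letI : Algebra K G := (IsLocalization.lift (M := nonZeroDivisors A) (S := K) (g := algebraMap A G)
    (fun a => by
      rw [IsScalarTower.algebraMap_apply A C G]
      exact IsLocalization.map_units G (⟨_, a.1, a.2, rfl⟩ : M))).toAlgebra
  haveI : IsScalarTower A K G := IsScalarTower.of_algebraMap_eq fun a => (IsLocalization.lift_eq _ a).symm
  haveI : Algebra.IsPushout A K C G := (Algebra.isPushout_of_isLocalization (nonZeroDivisors A) K C G).symm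
  let e : K ⊗[A] C ≃ₐ[K] G := Algebra.IsPushout.equiv A K C G
  haveI : Algebra.FiniteType K G := Algebra.FiniteType.equiv (inferInstance : Algebra.FiniteType K (K ⊗[A] C)) e
  let L := FractionRing G
  obtain ⟨t, ht, ht'⟩ := WeilLib.dim_eq_trdeg K G L
  refine ⟨t, (ringKrullDim_eq_of_ringEquiv e.toRingEquiv).trans ht, ?_⟩
  haveI : FaithfulSMul A K := (faithfulSMul_iff_algebraMap_injective _ _).2 (IsFractionRing.injective A K)
  haveI : FaithfulSMul C G := (faithfulSMul_iff_algebraMap_injective _ _).2 (IsLocalization.injective G hM)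
  haveI : FaithfulSMul K G := (faithfulSMul_iff_algebraMap_injective _ _).2 (RingHom.injective _)
  haveI : Algebra.IsAlgebraic A K := IsLocalization.isAlgebraic K (nonZeroDivisors A)
  haveI : Algebra.IsAlgebraic C G := IsLocalization.isAlgebraic G M
  have h1 := trdeg_add_eq A C (A := G)
  have h2 := trdeg_add_eq A K (A := G)
  rw [trdeg_eq_zero (R := C) (A := G), add_zero] at h1
  rw [trdeg_eq_zero (R := A) (A := K), zero_add] at h2
  rw [h1, ← h2, ← trdeg_fractionRing_eq K G L]
  exact ht'

/-- The generic transcendence degree is at most the local dimension of the special fibre. -/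
theorem le_localDim (q : Ideal C) [q.IsPrime] [q.LiesOver (maximalIdeal A)] :
    ∃ (Q : PrimeSpectrum ((maximalIdeal A).Fiber C)) (t : ℕ),
      Q.asIdeal.comap (Algebra.TensorProduct.includeRight.toRingHom) = q ∧ Algebra.trdeg A C = t ∧
      (t : WithBot ℕ∞) ≤ FlatMor.localDim (PrimeSpectrum ((maximalIdeal A).Fiber C)) Q := by
  let f := Spec.map (CommRingCat.ofHom (algebraMap A C))
  obtain ⟨t, ht, ht'⟩ := dim_generic_fibre (A := A) (C := C)
  haveI : LocallyOfFiniteType f := by
    rw [HasRingHomProperty.Spec_iff (P := @LocallyOfFiniteType)]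
    exact RingHom.finiteType_algebraMap.mpr inferInstance
  haveI : IsDominant f := ⟨(PrimeSpectrum.denseRange_comap_iff_ker_le_nilRadical (algebraMap A C)).2 (by rw [(RingHom.injective_iff_ker_eq_bot _).1 (FaithfulSMul.algebraMap_injective A C)]; exact bot_le)⟩
  have h1 := FibDimLib.generic_fiber_dim_le f (⟨q, inferInstance⟩ : PrimeSpectrum C)
  rw [genericPoint_eq_bot_of_affine] at h1
  have h3 := (topologicalKrullDim_fiber A C ⊥).symm.trans_le h1
  obtain ⟨Q, hQ, hd⟩ := FibDimLib.fibreDimAt_specMap A C (⟨q, inferInstance⟩ : PrimeSpectrum C)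
  have hpm : (PrimeSpectrum.comap (algebraMap A C) ⟨q, inferInstance⟩).asIdeal = maximalIdeal A :=
    (Ideal.over_def q (maximalIdeal A)).symm
  have h4 : (t : WithBot ℕ∞) ≤ FlatMor.fibreDimAt f (⟨q, inferInstance⟩ : PrimeSpectrum C) := ht ▸ h3
  rw [← hd] at h4
  clear hd
  revert Q
  generalize PrimeSpectrum.comap (algebraMap A C) ⟨q, inferInstance⟩ = pp at hpm
  obtain ⟨pp, hpp⟩ := pp
  subst hpm
  exact fun Q hQ h4 => ⟨Q, t, hQ, ht', h4⟩

set_option synthInstance.maxHeartbeats 200000 in
set_option maxHeartbeats 1600000 in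
/-- The main formula, for a finite type model. -/
theorem formula (q : Ideal C) [q.IsPrime] [q.LiesOver (maximalIdeal A)]
    (hflat : Module.Flat A (Localization.AtPrime q)) :
    ∃ (Q : Ideal ((maximalIdeal A).Fiber C)) (_ : Q.IsPrime) (d e : ℕ),
      Q.comap (Algebra.TensorProduct.includeRight.toRingHom) = q ∧
      ringKrullDim (Localization.AtPrime Q) = d ∧
      Algebra.trdeg (maximalIdeal A).ResidueField (((maximalIdeal A).Fiber C) ⧸ Q) = e ∧
      Algebra.trdeg A C = (d + e : ℕ) := by
  let k := (maximalIdeal A).ResidueField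
  let F := (maximalIdeal A).Fiber C
  obtain ⟨Q, t, hQ, ht, hle⟩ := le_localDim (A := A) q
  haveI : IsNoetherianRing F := Algebra.FiniteType.isNoetherianRing k F
  obtain ⟨e, he, he''⟩ := WeilLib.dim_eq_trdeg k (F ⧸ Q.asIdeal) (FractionRing (F ⧸ Q.asIdeal))
  have he' : Algebra.trdeg k (F ⧸ Q.asIdeal) = e := by
    rw [← trdeg_fractionRing_eq k (F ⧸ Q.asIdeal) (FractionRing (F ⧸ Q.asIdeal))]; exact he''
  obtain ⟨d, hd⟩ : ∃ d : ℕ, ringKrullDim (Localization.AtPrime Q.asIdeal) = d := by
    rw [IsLocalization.AtPrime.ringKrullDim_eq_height Q.asIdeal (Localization.AtPrime Q.asIdeal)]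
    obtain ⟨n, hn⟩ := ENat.ne_top_iff_exists.mp (Ideal.height_ne_top (I := Q.asIdeal) Ideal.IsPrime.ne_top')
    exact ⟨n, by rw [← hn]; rfl⟩
  have hL : FlatMor.localDim (PrimeSpectrum F) Q = ((e + d : ℕ) : WithBot ℕ∞) := by
    rw [FibDimLib.localDim_eq_dim_add k, he, hd, Nat.cast_add]
  let qs : Spec (CommRingCat.of F) ⟶ Spec (CommRingCat.of k) := Spec.map (CommRingCat.ofHom (algebraMap k F))
  haveI : LocallyOfFiniteType qs := by
    rw [HasRingHomProperty.Spec_iff (P := @LocallyOfFiniteType)]
    exact RingHom.finiteType_algebraMap.mpr inferInstance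
  obtain ⟨P, -, hPQ, hP⟩ := FibDimLib.exists_generic_localDim qs (Q : Spec (CommRingCat.of F))
  let PI : Ideal F := (P : PrimeSpectrum F).asIdeal
  obtain ⟨s, hs, hs'⟩ := WeilLib.dim_eq_trdeg k (F ⧸ PI) (FractionRing (F ⧸ PI))
  have hPQ' : PrimeSpectrum.asIdeal P ≤ Q.asIdeal :=
    (PrimeSpectrum.le_iff_specializes (P : PrimeSpectrum F) Q).mpr hPQ
  have hsum : e + d = s := by
    have h := hP
    rw [show topologicalKrullDim (closure ({P} : Set (Spec (CommRingCat.of F)))) =
      ringKrullDim (F ⧸ PrimeSpectrum.asIdeal P) from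
      FibDimLib.topologicalKrullDim_closure_prime (P : PrimeSpectrum F)] at h
    have := hL.symm.trans (h.trans hs)
    exact_mod_cast this
  -- the upper bound
  have hst : (s : Cardinal.{u}) ≤ t := by
    let ι := (Algebra.TensorProduct.includeRight : C →ₐ[A] F)
    let Pc : Ideal C := PI.comap ι.toRingHom
    haveI : Pc.IsPrime := Ideal.IsPrime.comap _
    have hPc : Pc ≤ q := hQ ▸ Ideal.comap_mono hPQ'
    let L := Localization.AtPrime Pc
    haveI : Module.Flat A L := by
      have hunit : ∀ y : q.primeCompl, IsUnit (algebraMap C L y) :=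
        fun y => IsLocalization.map_units L (⟨y.1, fun h => y.2 (hPc h)⟩ : Pc.primeCompl)
      letI : Algebra (Localization.AtPrime q) L := (IsLocalization.lift hunit).toAlgebra
      haveI : IsScalarTower C (Localization.AtPrime q) L :=
        IsScalarTower.of_algebraMap_eq fun c => (IsLocalization.lift_eq hunit c).symm
      haveI : IsScalarTower A (Localization.AtPrime q) L := IsScalarTower.to₁₃₄ A C (Localization.AtPrime q) L
      haveI := IsLocalization.isLocalization_of_submonoid_le (Localization.AtPrime q) L q.primeCompl Pc.primeCompl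
        (fun x hx hxP => hx (hPc hxP))
      haveI : Module.Flat (Localization.AtPrime q) L :=
        IsLocalization.flat L (Submonoid.map (algebraMap C (Localization.AtPrime q)) Pc.primeCompl)
      exact Module.Flat.trans A (Localization.AtPrime q) L
    let κ := FractionRing (F ⧸ PI)
    let φ : C →ₐ[A] κ := (IsScalarTower.toAlgHom A F κ).comp ι
    let ψ : L →ₐ[A] κ := IsLocalization.liftAlgHom (M := Pc.primeCompl) (f := φ) fun y => by
      refine isUnit_iff_ne_zero.2 fun h => y.2 ?_
      exact (Ideal.Quotient.eq_zero_iff_mem (I := PI)).1 ((map_eq_zero_iff (algebraMap (F ⧸ PI) κ) (IsFractionRing.injective _ _)).1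
        ((IsScalarTower.algebraMap_apply F (F ⧸ PI) κ (ι (y : C))).symm.trans h))
    obtain ⟨ι', hι'⟩ := exists_isTranscendenceBasis' k (F ⧸ PI)
    obtain ⟨y, hy⟩ := hι'
    have hιsurj : Function.Surjective ι := fun z => by
      obtain ⟨r, hr, c, hrc⟩ := Ideal.Fiber.exists_smul_eq_one_tmul (maximalIdeal A) z
      obtain ⟨r', hr'⟩ := (IsLocalRing.notMem_maximalIdeal.1 hr).exists_left_inv
      refine ⟨r' • c, ?_⟩
      rw [map_smul, show ι c = r • z from hrc.symm, ← mul_smul, hr', one_smul]
    choose x hx using fun i => (Ideal.Quotient.mk_surjective.comp hιsurj) (y i)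
    have halg : AlgebraicIndependent A x := by
      refine algebraicIndependent_of_residue (L := L) (k₀ := k) (Ideal.algebraMap_residueField_surjective (maximalIdeal A)) ψ x ?_
      have h0 : AlgebraicIndependent k fun i => algebraMap (F ⧸ PI) κ (y i) :=
        hy.1.map' (f := IsScalarTower.toAlgHom k (F ⧸ PI) κ)
          (IsFractionRing.injective _ _)
      have h1 : (fun i => ψ (algebraMap C L (x i))) = fun i => algebraMap (F ⧸ PI) κ (y i) := by
        funext i
        rw [← hx i]
        exact IsLocalization.lift_eq _ _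
      rw [h1]
      exact h0
    have hcard := hy.lift_cardinalMk_eq_trdeg
    simp only [Cardinal.lift_id] at hcard
    rw [← ht, ← hs', trdeg_fractionRing_eq k (F ⧸ PI) κ, ← hcard]
    exact halg.cardinalMk_le_trdeg
  have hts : t ≤ s := by
    rw [← hsum]
    exact_mod_cast hle.trans hL.le
  have hst' : s ≤ t := by exact_mod_cast hst
  exact ⟨Q.asIdeal, inferInstance, d, e, hQ, hd, he', by rw [ht, le_antisymm hts hst', ← hsum, add_comm e d]⟩

end DimTrdegLib
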