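import Groth.Agent.DimTrdegLib.Basic
import Mathlib

/-! # All fibres over the closed point of a flat domain have the generic dimension -/

set_option autoImplicit false

universe u

open IsLocalRing
open scoped TensorProduct

namespace DimTrdegLib

variable {A : Type u} [CommRing A] [IsDomain A] [IsLocalRing A]
variable {C : Type u} [CommRing C] [IsDomain C] [Algebra A C] [Algebra.FiniteType A C] [FaithfulSMul A C]

set_option synthInstance.maxHeartbeats 200000 in
set_option maxHeartbeats 1000000 in
theorem ringKrullDim_closed_fibre_eq [Module.Flat A C] [Nontrivial ((maximalIdeal A).Fiber C)] :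
    ringKrullDim ((maximalIdeal A).Fiber C) = ringKrullDim ((⊥ : Ideal A).Fiber C) := by
  classical
  let F := (maximalIdeal A).Fiber C
  let k := (maximalIdeal A).ResidueField
  haveI : IsNoetherianRing F := Algebra.FiniteType.isNoetherianRing k F
  obtain ⟨t, ht, htr⟩ := dim_generic_fibre (A := A) (C := C)
  refine Eq.trans ?_ ht.symm
  let ι := (Algebra.TensorProduct.includeRight : C →ₐ[A] F)
  have hιsurj : Function.Surjective ι.toRingHom := fun z => by
    obtain ⟨r, hr, c, hrc⟩ := Ideal.Fiber.exists_smul_eq_one_tmul (maximalIdeal A) z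
    obtain ⟨r', hr'⟩ := (IsLocalRing.notMem_maximalIdeal.1 hr).exists_left_inv
    refine ⟨r' • c, ?_⟩
    show ι (r' • c) = z
    rw [map_smul, show ι c = r • z from hrc.symm, ← mul_smul, hr', one_smul]
  have key : ∀ (Q : Ideal F) [Q.IsPrime], ∃ d e : ℕ, (Q.height : WithBot ℕ∞) = d ∧
      ringKrullDim (F ⧸ Q) = e ∧ d + e = t := fun Q _ => by
    let q := Q.comap ι.toRingHom
    haveI : q.IsPrime := Ideal.IsPrime.comap _
    haveI : q.LiesOver (maximalIdeal A) :=
      ⟨((Ideal.over_def Q (maximalIdeal A)).trans (Ideal.ext fun a => by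
        show algebraMap A F a ∈ Q ↔ ι (algebraMap A C a) ∈ Q
        rw [AlgHom.commutes]))⟩
    obtain ⟨Q', hQ', d, e, hQ'q, hd, he, hsum⟩ := formula (A := A) (C := C) q inferInstance
    obtain rfl : Q' = Q := Ideal.comap_injective_of_surjective ι.toRingHom hιsurj hQ'q
    obtain ⟨s, hs, hs'⟩ := WeilLib.dim_eq_trdeg k (F ⧸ Q') (FractionRing (F ⧸ Q'))
    rw [trdeg_fractionRing_eq k (F ⧸ Q') (FractionRing (F ⧸ Q')), he] at hs'
    rw [IsLocalization.AtPrime.ringKrullDim_eq_height Q' (Localization.AtPrime Q')] at hd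
    refine ⟨d, e, hd, by rw [hs, (Nat.cast_injective (R := Cardinal) hs' : e = s)], ?_⟩
    exact Nat.cast_injective (R := Cardinal) (hsum.symm.trans htr)
  refine le_antisymm (iSup_le fun l => ?_) ?_
  · obtain ⟨d, e, hd, -, hde⟩ := key l.last.asIdeal
    refine le_trans ?_ (show (d : WithBot ℕ∞) ≤ t by exact_mod_cast (show d ≤ t by omega))
    rw [← hd, PrimeSpectrum.height_eq_orderHeight]
    exact WithBot.coe_le_coe.2 Order.length_le_height_last
  · obtain ⟨M, hM⟩ := Ideal.exists_maximal F
    haveI := hM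
    obtain ⟨d, e, hd, he, hde⟩ := key M
    letI := Ideal.Quotient.field M
    rw [ringKrullDim_eq_zero_of_field] at he
    have he0 : e = 0 := by exact_mod_cast he.symm
    rw [← hde, he0, add_zero, ← hd]
    exact Ideal.height_le_ringKrullDim_of_ne_top hM.ne_top

end DimTrdegLib
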