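import Groth.Agent.DimTrdegLib.Basic
import Groth.Agent.DimIneqLib.Scheme
import Mathlib

/-! # The formula for local algebras essentially of finite type -/

set_option autoImplicit false

universe u

open IsLocalRing
open scoped TensorProduct

namespace DimTrdegLib

theorem trdeg_localization_eq (A C B : Type u) [CommRing A] [IsDomain A] [CommRing C] [IsDomain C] [CommRing B]
    [IsDomain B] [Algebra A C] [Algebra C B] [Algebra A B] [IsScalarTower A C B] [FaithfulSMul A C]
    [FaithfulSMul C B] (M : Submonoid C) [IsLocalization M B] : Algebra.trdeg A B = Algebra.trdeg A C := by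
  haveI : Algebra.IsAlgebraic C B := IsLocalization.isAlgebraic B M
  rw [← trdeg_add_eq A C (A := B), trdeg_eq_zero (R := C) (A := B), add_zero]

section Generic

variable {A B C : Type u} [CommRing A] [CommRing B] [CommRing C] [IsLocalRing A] [Algebra A C] [Algebra A B]
  [Algebra C B] [IsScalarTower A C B] (q : Ideal C) [q.IsPrime] [IsLocalization q.primeCompl B]
  {F : Type u} [CommRing F] [Algebra A F] (ι : C →ₐ[A] F) (hιsurj : Function.Surjective ι)
  (Q : Ideal F) [Q.IsPrime] (hQ : Q.comap ι.toRingHom = q)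

include hιsurj hQ in
theorem ringKrullDim_closedFibre (hιker : ∀ c, ι c = 0 → c ∈ (maximalIdeal A).map (algebraMap A C))
    (hkill : ∀ a ∈ maximalIdeal A, algebraMap A F a = 0) :
    ringKrullDim (B ⧸ Ideal.map (algebraMap A B) (maximalIdeal A)) = ringKrullDim (Localization.AtPrime Q) := by
  classical
  let FQ := Localization.AtPrime Q
  have hu : ∀ y : q.primeCompl, IsUnit (((algebraMap F FQ).comp ι.toRingHom) y) := fun y =>
    IsLocalization.map_units FQ (⟨ι y, fun h => y.2 (SetLike.le_def.1 hQ.le h)⟩ : Q.primeCompl)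
  let g : B →+* FQ := IsLocalization.lift hu
  have hg : ∀ c, g (algebraMap C B c) = algebraMap F FQ (ι c) := fun c => IsLocalization.lift_eq hu c
  have hgsurj : Function.Surjective g := fun z => by
    obtain ⟨⟨f, t⟩, hft⟩ := IsLocalization.surj Q.primeCompl z
    obtain ⟨c, rfl⟩ := hιsurj f
    obtain ⟨s, hs⟩ := hιsurj t
    have hsq : s ∉ q := fun h => t.2 (by rw [← hs]; exact SetLike.le_def.1 hQ.ge h)
    refine ⟨IsLocalization.mk' B c (⟨s, hsq⟩ : q.primeCompl), ?_⟩
    refine (IsLocalization.map_units FQ t).mul_left_inj.1 ?_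
    rw [hft, ← hs, ← hg, ← map_mul, IsLocalization.mk'_spec, hg]
  have hgker : RingHom.ker g = (maximalIdeal A).map (algebraMap A B) := by
    refine le_antisymm (fun b hb => ?_) ?_
    · obtain ⟨⟨c, s⟩, rfl⟩ := IsLocalization.mk'_surjective q.primeCompl b
      have h0 : algebraMap F FQ (ι c) = 0 := by
        rw [← hg, ← IsLocalization.mk'_spec B c s, map_mul, RingHom.mem_ker.1 hb, zero_mul]
      obtain ⟨⟨t, ht⟩, htc⟩ := (IsLocalization.map_eq_zero_iff Q.primeCompl FQ _).1 h0
      obtain ⟨t', rfl⟩ := hιsurj t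
      have h3 := Ideal.mem_map_of_mem (algebraMap C B) (hιker (t' * c) (by rw [map_mul]; exact htc))
      rw [Ideal.map_map, ← IsScalarTower.algebraMap_eq, map_mul] at h3
      have hu' : IsUnit (algebraMap C B t') := IsLocalization.map_units B (⟨t', fun h => ht (SetLike.le_def.1 hQ.ge h)⟩ : q.primeCompl)
      rw [Ideal.unit_mul_mem_iff_mem _ hu'] at h3
      dsimp only
      rw [IsLocalization.mk'_eq_mul_mk'_one]
      exact Ideal.mul_mem_right _ _ h3
    · refine Ideal.map_le_iff_le_comap.2 fun a ha => ?_
      rw [Ideal.mem_comap, RingHom.mem_ker, IsScalarTower.algebraMap_apply A C B, hg, AlgHom.commutes,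
        hkill a ha, map_zero]
  rw [← hgker, ringKrullDim_eq_of_ringEquiv (RingHom.quotientKerEquivOfSurjective hgsurj)]

include hιsurj hQ in
theorem trdeg_residue_eq [IsLocalRing B] [IsLocalHom (algebraMap A B)] {k : Type u} [Field k] [Algebra A k] [Algebra k F]
    [IsScalarTower A k F] (hk : Function.Surjective (algebraMap A k)) (hqm : q = (maximalIdeal B).comap (algebraMap C B))
    [q.LiesOver (maximalIdeal A)]
    (e : ℕ) (he : Algebra.trdeg k (F ⧸ Q) = e) :
    Algebra.trdeg (ResidueField A) (ResidueField B) = e := by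
  classical
  let L := FractionRing (F ⧸ Q)
  have hL : Algebra.trdeg k L = e := by rw [trdeg_fractionRing_eq k (F ⧸ Q) L]; exact he
  let ψ : C →+* L := (algebraMap F L).comp ι.toRingHom
  have hψker : RingHom.ker ψ = q := by
    rw [← hQ]
    ext c
    rw [RingHom.mem_ker, Ideal.mem_comap, ← Ideal.Quotient.eq_zero_iff_mem (I := Q)]
    show algebraMap F L (ι c) = 0 ↔ _
    rw [IsScalarTower.algebraMap_apply F (F ⧸ Q) L, Ideal.Quotient.algebraMap_eq]
    exact map_eq_zero_iff _ (IsFractionRing.injective (F ⧸ Q) L)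
  have hψfrac : DimIneqLib.IsFrac ψ := fun z => by
    obtain ⟨a, b, hb, rfl⟩ := IsFractionRing.div_surjective (F ⧸ Q) z
    obtain ⟨a, rfl⟩ := (Ideal.Quotient.mk_surjective.comp hιsurj) a
    obtain ⟨b, rfl⟩ := (Ideal.Quotient.mk_surjective.comp hιsurj) b
    have hb0 : algebraMap (F ⧸ Q) L ((Ideal.Quotient.mk Q) (ι b)) ≠ 0 := fun h0 =>
      nonZeroDivisors.ne_zero hb ((map_eq_zero_iff _ (IsFractionRing.injective (F ⧸ Q) L)).1 h0)
    refine ⟨a, b, ?_, ?_⟩
    · show algebraMap F L (ι b) ≠ 0
      rw [IsScalarTower.algebraMap_apply F (F ⧸ Q) L]; exact hb0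
    · show _ / _ * algebraMap F L (ι b) = algebraMap F L (ι a)
      rw [IsScalarTower.algebraMap_apply F (F ⧸ Q) L, IsScalarTower.algebraMap_apply F (F ⧸ Q) L (ι a)]
      exact div_mul_cancel₀ _ hb0
  have hR : ∀ (K : Type u) [Field K] (φ : A →+* K), Function.Surjective φ → DimIneqLib.IsFrac φ :=
    fun K _ φ hφ z => by
      obtain ⟨a, rfl⟩ := hφ z
      exact ⟨a, 1, by rw [map_one]; exact one_ne_zero, by rw [map_one, mul_one]⟩
  have h1 : DimIneqLib.trH (algebraMap k L) = DimIneqLib.tr (A ⧸ maximalIdeal A) (C ⧸ q) := by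
    refine DimIneqLib.trH_eq q (maximalIdeal A) (algebraMap A k) ψ
      (IsLocalRing.eq_maximalIdeal (RingHom.ker_isMaximal_of_surjective _ hk)) hψker
      (hR k _ hk) hψfrac _ (RingHom.ext fun a => ?_)
    show algebraMap k L (algebraMap A k a) = algebraMap F L (ι (algebraMap A C a))
    rw [AlgHom.commutes, IsScalarTower.algebraMap_apply k F L, ← IsScalarTower.algebraMap_apply A k F]
  have hψ' : DimIneqLib.IsFrac ((residue B).comp (algebraMap C B)) := fun z => by
    obtain ⟨b, rfl⟩ := residue_surjective z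
    obtain ⟨⟨a, s⟩, rfl⟩ := IsLocalization.mk'_surjective q.primeCompl b
    refine ⟨a, s, fun h => s.2 (SetLike.le_def.1 hqm.ge ((residue_eq_zero_iff _).1 h)), ?_⟩
    show residue B _ * residue B (algebraMap C B s) = _
    rw [← map_mul, IsLocalization.mk'_spec]
    rfl
  have h2 : DimIneqLib.trH (algebraMap (ResidueField A) (ResidueField B)) = DimIneqLib.tr (A ⧸ maximalIdeal A) (C ⧸ q) := by
    refine DimIneqLib.trH_eq q (maximalIdeal A) (residue A) ((residue B).comp (algebraMap C B))
      IsLocalRing.ker_residue (by rw [← RingHom.comap_ker, IsLocalRing.ker_residue, hqm])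
      (hR _ _ residue_surjective) hψ' _ (RingHom.ext fun a => ?_)
    show algebraMap (ResidueField A) (ResidueField B) (residue A a) = residue B (algebraMap C B (algebraMap A C a))
    rw [← IsScalarTower.algebraMap_apply]
    rfl
  have h3 : DimIneqLib.tr (ResidueField A) (ResidueField B) = DimIneqLib.tr k L := by
    have h4 := h2.trans h1.symm
    simp only [DimIneqLib.trH] at h4
    convert h4 using 2
    all_goals first
      | rfl
      | exact Algebra.algebra_ext _ _ fun _ => rfl
  rw [DimIneqLib.tr, DimIneqLib.tr, hL] at h3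
  exact Cardinal.toENat_eq_natCast.1 (h3.trans (by simp))

end Generic

set_option maxHeartbeats 1600000 in
set_option synthInstance.maxHeartbeats 200000 in
/-- `dim (B / m B) + trdeg κ(B) / κ(A) = trdeg B / A`. -/
theorem formula_local {A B : Type u} [CommRing A] [CommRing B] [IsDomain A] [IsDomain B] [IsLocalRing A] [IsLocalRing B]
    [Algebra A B] [IsLocalHom (algebraMap A B)] [FaithfulSMul A B] [Algebra.EssFiniteType A B] [Module.Flat A B] :
    ∃ d e : ℕ, ringKrullDim (B ⧸ Ideal.map (algebraMap A B) (maximalIdeal A)) = d ∧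
      Algebra.trdeg (ResidueField A) (ResidueField B) = e ∧ Algebra.trdeg A B = (d + e : ℕ) := by
  classical
  let C := Algebra.EssFiniteType.subalgebra A B
  let q : Ideal C := (maximalIdeal B).comap (algebraMap C B)
  haveI : q.IsPrime := Ideal.IsPrime.comap _
  haveI : q.LiesOver (maximalIdeal A) := ⟨by
    show maximalIdeal A = ((maximalIdeal B).comap (algebraMap C B)).comap (algebraMap A C)
    rw [Ideal.comap_comap, ← IsScalarTower.algebraMap_eq, IsLocalRing.maximalIdeal_comap]⟩
  have hM : Algebra.EssFiniteType.submonoid A B = q.primeCompl := by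
    ext x
    exact (IsLocalRing.notMem_maximalIdeal (x := algebraMap C B x)).symm
  haveI hloc : IsLocalization q.primeCompl B := hM ▸ (inferInstance : IsLocalization (Algebra.EssFiniteType.submonoid A B) B)
  have hinjA : Function.Injective (algebraMap A B) := FaithfulSMul.algebraMap_injective A B
  haveI : FaithfulSMul A C := (faithfulSMul_iff_algebraMap_injective _ _).2
    (Function.Injective.of_comp (f := algebraMap C B) (by rw [← RingHom.coe_comp, ← IsScalarTower.algebraMap_eq]; exact hinjA))
  have hflat : Module.Flat A (Localization.AtPrime q) :=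
    Module.Flat.of_linearEquiv ((IsLocalization.algEquiv q.primeCompl (Localization.AtPrime q) B).toLinearEquiv.restrictScalars A)
  obtain ⟨Q, hQp, d, e, hQ, hd, he, hsum⟩ := formula (A := A) (C := C) q hflat
  refine ⟨d, e, ?_, ?_, ?_⟩
  · -- the closed fibre
    let k := (maximalIdeal A).ResidueField
    let F := (maximalIdeal A).Fiber C
    let ι := (Algebra.TensorProduct.includeRight : C →ₐ[A] F)
    have hιsurj : Function.Surjective ι := fun z => by
      obtain ⟨r, hr, c, hrc⟩ := Ideal.Fiber.exists_smul_eq_one_tmul (maximalIdeal A) z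
      obtain ⟨r', hr'⟩ := (IsLocalRing.notMem_maximalIdeal.1 hr).exists_left_inv
      refine ⟨r' • c, ?_⟩
      rw [map_smul, show ι c = r • z from hrc.symm, ← mul_smul, hr', one_smul]
    have hιker : ∀ c, ι c = 0 → c ∈ (maximalIdeal A).map (algebraMap A C) := fun c hc => by
      let θ : (A ⧸ maximalIdeal A) ≃ₗ[A] k :=
        LinearEquiv.ofBijective (IsScalarTower.toAlgHom A (A ⧸ maximalIdeal A) k).toLinearMap
          (Ideal.bijective_algebraMap_quotient_residueField _)
      have h1 : (1 : A ⧸ maximalIdeal A) ⊗ₜ[A] c = 0 := by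
        apply (TensorProduct.congr θ (LinearEquiv.refl A C)).injective
        rw [map_zero, TensorProduct.congr_tmul]
        refine Eq.trans ?_ hc
        show θ 1 ⊗ₜ[A] c = (1 : k) ⊗ₜ[A] c
        rw [show θ 1 = (1 : k) from map_one (algebraMap (A ⧸ maximalIdeal A) k)]
      have h2 := (LinearMap.ker_tensorProductMk (R := A) (Q := C) (I := maximalIdeal A)).le
        (LinearMap.mem_ker.2 (show TensorProduct.mk A (A ⧸ maximalIdeal A) C 1 c = 0 from h1))
      rwa [Ideal.smul_top_eq_map, Submodule.restrictScalars_mem] at h2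
    exact (ringKrullDim_closedFibre q ι hιsurj Q hQ hιker fun a ha => by
      rw [IsScalarTower.algebraMap_apply A k F, Ideal.algebraMap_residueField_eq_zero.2 ha, map_zero]).trans hd
  · exact trdeg_residue_eq q (Algebra.TensorProduct.includeRight : C →ₐ[A] (maximalIdeal A).Fiber C) (fun z => by
        obtain ⟨r, hr, c, hrc⟩ := Ideal.Fiber.exists_smul_eq_one_tmul (maximalIdeal A) z
        obtain ⟨r', hr'⟩ := (IsLocalRing.notMem_maximalIdeal.1 hr).exists_left_inv
        refine ⟨r' • c, ?_⟩
        rw [map_smul, show (Algebra.TensorProduct.includeRight : C →ₐ[A] (maximalIdeal A).Fiber C) c = r • z from hrc.symm,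
          ← mul_smul, hr', one_smul])
      Q hQ (k := (maximalIdeal A).ResidueField) (Ideal.algebraMap_residueField_surjective (maximalIdeal A)) rfl
      e he
  · haveI : FaithfulSMul C B := (faithfulSMul_iff_algebraMap_injective _ _).2 Subtype.val_injective
    rw [trdeg_localization_eq A C B q.primeCompl]
    exact hsum

end DimTrdegLib
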